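import Cfsg.Agent.Lib.helper11c.Orb1

/-! Orbit certificates (generated). -/

set_option autoImplicit false

namespace Cfsg.Agent.Lib.helper11

open Cfsg Cfsg.Lie

def orbDDG2 : List ℕ := [3, 2, 3, 2, 1, 1, 0, 0, 1, 2, 1, 2]

theorem orbOK_G2 : orbOK chevG2 chevG2.isLong orbDDG2 7 6 = true := by decide +kernel

def orbDDB2 : List ℕ := [2, 2, 1, 1, 0, 0, 1, 1]

theorem orbOK_B2 : orbOK chevB2 chevB2.isLong orbDDB2 5 4 = true := by decide +kernel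

def orbDDD4 : List ℕ := [5, 4, 3, 3, 2, 1, 5, 4, 4, 3, 5, 5, 4, 4, 2, 3, 3, 4, 0, 1, 2, 2, 3, 4]

theorem orbOK_D4 : orbOK chevD4 (fun _ => false) orbDDD4 18 18 = true := by decide +kernel

def orbDDF4 : List ℕ := [8, 7, 6, 8, 5, 4, 3, 7, 6, 5, 4, 4, 3, 2, 1, 4, 3, 2, 5, 4, 3, 2, 1, 3, 2, 0, 1, 2, 3, 4, 1, 2, 3, 0, 1, 2, 3, 3, 4, 5, 6, 2, 3, 4, 7, 5, 6, 7]

theorem orbOK_F4 : orbOK chevF4 chevF4.isLong orbDDF4 33 25 = true := by decide +kernel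

def orbDDE6 : List ℕ := [11, 10, 9, 8, 7, 8, 7, 6, 6, 5, 4, 5, 4, 3, 2, 1, 9, 8, 7, 7, 6, 5, 8, 7, 6, 7, 6, 5, 4, 3, 7, 6, 5, 8, 7, 9, 8, 6, 7, 4, 5, 6, 2, 3, 4, 5, 6, 5, 6, 7, 4, 5, 6, 6, 7, 8, 0, 1, 2, 3, 4, 3, 4, 5, 5, 6, 7, 6, 7, 8, 9, 10]

theorem orbOK_E6 : orbOK chevE6 (fun _ => false) orbDDE6 56 56 = true := by decide +kernel

def orbDDE7 : List ℕ := [17, 16, 15, 14, 13, 12, 11, 13, 12, 11, 10, 11, 10, 9, 9, 8, 7, 10, 9, 8, 8, 7, 6, 7, 6, 5, 4, 6, 5, 4, 3, 2, 1, 11, 10, 9, 9, 8, 7, 8, 7, 6, 5, 9, 8, 7, 6, 7, 7, 6, 5, 4, 3, 8, 7, 6, 5, 9, 8, 7, 10, 9, 11, 10, 8, 9, 6, 7, 8, 4, 5, 6, 7, 2, 3, 4, 5, 6, 6, 5, 6, 7, 8, 4, 5, 6, 7, 6, 7, 8, 8, 9, 10, 0, 1, 2, 3, 4, 5, 3, 4, 5, 6, 5, 6, 7, 7, 8, 9, 6, 7, 8, 8, 9, 10, 9, 10, 11, 12, 10, 11, 12, 13, 14,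 15, 16]

theorem orbOK_E7 : orbOK chevE7 (fun _ => false) orbDDE7 93 93 = true := by decide +kernel

def orbDDE8 : List ℕ := [29, 28, 27, 26, 25, 24, 23, 23, 22, 21, 20, 19, 18, 17, 22, 21, 20, 19, 18, 17, 16, 19, 18, 17, 16, 15, 17, 16, 15, 14, 15, 14, 13, 13, 12, 11, 16, 15, 14, 13, 14, 13, 12, 12, 11, 10, 13, 12, 11, 11, 10, 9, 10, 9, 8, 7, 12, 11, 10, 10, 9, 8, 9, 8, 7, 6, 8, 7, 6, 5, 4, 7, 6, 5, 4, 3, 2, 1, 13, 12, 11, 11, 10, 9, 10, 9, 8, 7, 9, 8, 7, 6, 5, 10, 9, 8, 7, 6, 7, 8, 7, 6, 5, 4, 3, 9, 8, 7, 6, 5, 10, 9, 8, 7, 11, 10, 9, 12, 11, 13, 12, 10, 11, 8, 9, 10, 6, 7, 8, 9, 4, 5, 6, 7, 8, 2, 3, 4, 5, 6, 7, 6, 5, 6, 7, 8, 9, 4, 5, 6, 7, 8, 6, 7, 8, 9, 8, 9, 10, 10, 11, 12, 0, 1, 2, 3, 4, 5, 6, 3, 4, 5, 6, 7, 5, 6, 7, 8, 7, 8, 9, 9, 10, 11, 6, 7, 8,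 9, 8, 9, 10, 10, 11, 12, 9, 10, 11, 11, 12, 13, 12, 13, 14, 15, 10, 11, 12, 12, 13, 14, 13, 14, 15, 16, 14, 15, 16, 17, 18, 15, 16, 17, 18, 19, 20, 21, 16, 17, 18, 19, 20, 21, 22, 22, 23, 24, 25, 26, 27, 28]

theorem orbOK_E8 : orbOK chevE8 (fun _ => false) orbDDE8 162 162 = true := by decide +kernel

end Cfsg.Agent.Lib.helper11
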